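import Groth.Agent.Lib.FunFld.SmallGenus
import Groth.Agent.Lib.FunFld.Rational
import Groth.Prelude.Def_Curves
import Mathlib.Tactic.LinearCombination

/-!
# A genus-zero function field over a C₁ field has a divisor of degree one
-/

set_option autoImplicit false

namespace Groth.Agent.H34.Conic

open WithZero
open Groth.Agent.Lib.FunFld Groth.Agent.Lib.FunFld.Place Groth.Agent.Lib.FunFld.Degree

variable {k K : Type*} [Field k] [Field K] [Algebra k K]

local notation "Dv" => _root_.FunFld.Divisor k K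

theorem val_algebraMap_eq_one (P : _root_.FunFld.Place k K) {c : k} (hc : c ≠ 0) :
    P.1 (algebraMap k K c) = 1 := by
  rw [val_eq_exp P (by simpa using hc), Place.ord_algebraMap, neg_zero, exp_zero]

theorem not_rel_one (P : _root_.FunFld.Place k K) {t u : K} (e B f g : k)
    (ht : 1 < P.1 t) (hu : P.1 u ≤ P.1 t)
    (h : algebraMap k K B * u + algebraMap k K e * t ^ 2 + algebraMap k K f * t +
      algebraMap k K g = 0) : e = 0 := by
  by_contra he
  have h1 : algebraMap k K e * t ^ 2 =
      -(algebraMap k K B * u + algebraMap k K f * t + algebraMap k K g) := by linear_combination h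
  have h2 : P.1 (algebraMap k K B * u + algebraMap k K f * t + algebraMap k K g) ≤ P.1 t := by
    refine (P.1.map_add _ _).trans (max_le ((P.1.map_add _ _).trans (max_le ?_ ?_)) ?_)
    · rw [map_mul]; exact (mul_le_mul' (P.2.1 B) hu).trans_eq (one_mul _)
    · rw [map_mul]; exact (mul_le_mul' (P.2.1 f) le_rfl).trans_eq (one_mul _)
    · exact (P.2.1 g).trans ht.le
  rw [← Valuation.map_neg, ← h1, map_mul, val_algebraMap_eq_one P he, one_mul, map_pow, sq] at h2
  have h0 : 0 < P.1 t := lt_trans zero_lt_one ht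
  have h3 : P.1 t < P.1 t * P.1 t := by
    simpa using mul_lt_mul_of_pos_right ht h0
  exact absurd h2 (not_le.mpr h3)

theorem rel_zero (P : _root_.FunFld.Place k K) {s u : K} (e B f g : k)
    (hs : P.1 s < 1) (hu : P.1 u ≤ 1)
    (h : algebraMap k K B * (u * s) + algebraMap k K e * s ^ 2 + algebraMap k K f * s +
      algebraMap k K g = 0) : g = 0 := by
  by_contra hg
  have h1 : algebraMap k K g =
      -(s * (algebraMap k K B * u + algebraMap k K e * s + algebraMap k K f)) := by
    linear_combination h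
  have h2 : P.1 (algebraMap k K B * u + algebraMap k K e * s + algebraMap k K f) ≤ 1 := by
    refine (P.1.map_add _ _).trans (max_le ((P.1.map_add _ _).trans (max_le ?_ ?_)) (P.2.1 f))
    · rw [map_mul]; exact (mul_le_mul' (P.2.1 B) hu).trans_eq (one_mul _)
    · rw [map_mul]; exact (mul_le_mul' (P.2.1 e) hs.le).trans_eq (one_mul _)
  have h4 := val_algebraMap_eq_one P hg
  rw [h1, Valuation.map_neg, map_mul] at h4
  refine absurd ?_ (not_le.mpr hs)
  calc (1 : WithZero (Multiplicative ℤ)) = _ := h4.symm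
    _ ≤ P.1 s * 1 := mul_le_mul' le_rfl h2
    _ = P.1 s := mul_one _

/-- Three independent sections of a divisor of degree two satisfying a quadric with a rational point. -/
theorem exists_deg_one_of_quadric (hK : _root_.FunFld.IsFunctionField k K) {F : Dv} (hd : F.deg = 2)
    {a b c : K} (ha : a ∈ _root_.FunFld.L F) (hb : b ∈ _root_.FunFld.L F) (hc : c ∈ _root_.FunFld.L F)
    (hind : ∀ α β γ : k, algebraMap k K α * a + algebraMap k K β * b + algebraMap k K γ * c = 0 →
      α = 0 ∧ β = 0 ∧ γ = 0)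
    {B1 B2 e f g : k} (hne : ¬(B1 = 0 ∧ B2 = 0 ∧ e = 0 ∧ f = 0 ∧ g = 0))
    (h : a * (algebraMap k K B1 * b + algebraMap k K B2 * c) + algebraMap k K e * b ^ 2 +
      algebraMap k K f * (b * c) + algebraMap k K g * c ^ 2 = 0) :
    ∃ D : Dv, D.deg = 1 := by
  set φ := algebraMap k K with hφ
  have hc0 : c ≠ 0 := fun hc0 => one_ne_zero (hind 0 0 1 (by simp [hc0])).2.2
  set t := b / c with htdef
  set u := a / c with hudef
  have hdep : ∀ B p q : k, φ B * u + φ p * t + φ q = 0 → B = 0 ∧ p = 0 ∧ q = 0 := by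
    intro B p q h'
    refine hind B p q ?_
    have : (φ B * u + φ p * t + φ q) * c = 0 := by rw [h', zero_mul]
    rw [htdef, hudef] at this
    field_simp at this
    linear_combination this
  have htr : Transcendental k t := by
    refine Bound.transcendental_of_not_mem_range hK ?_
    rintro ⟨r, hr⟩
    have := (hdep 0 1 (-r) (by rw [hφ]; simp [hr])).2.1
    exact one_ne_zero this
  have hrel : u * (φ B1 * t + φ B2) + φ e * t ^ 2 + φ f * t + φ g = 0 := by
    rw [htdef, hudef]
    field_simp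
    linear_combination h
  let D' : Dv := F + _root_.FunFld.div k c
  have hD' : ∀ x ∈ _root_.FunFld.L F, x / c ∈ _root_.FunFld.L D' := by
    intro x hx
    rcases eq_or_ne x 0 with rfl | hx0
    · simp
    rw [mem_L_iff_div hK] at hx ⊢
    refine Or.inr ?_
    have hx' := hx.resolve_left hx0
    rw [div_eq_mul_inv, div_mul hK hx0 (inv_ne_zero hc0), div_inv hK]
    show 0 ≤ _root_.FunFld.div k x + -_root_.FunFld.div k c + (F + _root_.FunFld.div k c)
    rw [show _root_.FunFld.div k x + -_root_.FunFld.div k c + (F + _root_.FunFld.div k c) =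
      _root_.FunFld.div k x + F by abel]
    exact hx'
  have hdD : D'.deg = 2 := by rw [deg_add, deg_div hK, hd, add_zero]
  have htL : t ∈ _root_.FunFld.L D' := hD' b hb
  have huL : u ∈ _root_.FunFld.L D' := hD' a ha
  have h1L : (1 : K) ∈ _root_.FunFld.L D' := by simpa [div_self hc0] using hD' c hc
  have hle : poleDiv (k := k) t ≤ D' := by
    refine Finsupp.le_def.mpr fun P => ?_
    rw [poleDiv_apply hK]
    refine max_le ?_ ?_
    · have := (mem_L_iff_ord.1 htL).resolve_left (Bound.ne_zero_of_transcendental htr) P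
      omega
    · have := (mem_L_iff_ord.1 h1L).resolve_left one_ne_zero P
      rw [show (1 : K) = algebraMap k K 1 from (map_one _).symm, Place.ord_algebraMap] at this
      omega
  have hmono := deg_mono hle
  rw [hdD] at hmono
  haveI := Bound.finiteDimensional_adjoin_transcendental hK htr
  have hpos : 0 < (poleDiv (k := k) t).deg := by
    rw [deg_poleDiv hK htr]
    exact_mod_cast Module.finrank_pos
  by_cases h1 : (poleDiv (k := k) t).deg = 1
  · exact ⟨_, h1⟩
  exfalso
  have heq : D' = poleDiv (k := k) t := (sub_eq_zero.1 (SmallGenus.eq_zero_of_nonneg hK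
    (E := D' - poleDiv (k := k) t) (sub_nonneg.mpr hle) (by rw [deg_sub, hdD]; omega)))
  have hval : ∀ P : _root_.FunFld.Place k K, P.1 u ≤ exp (max (-P.ord t) 0) := fun P => by
    have := huL P
    rwa [heq, poleDiv_apply hK] at this
  by_cases hB1 : B1 = 0
  · subst hB1
    obtain ⟨P, hP⟩ : ∃ P : _root_.FunFld.Place k K, P.ord t < 0 := by
      by_contra hall
      push Not at hall
      have h0 : poleDiv (k := k) t = 0 := Finsupp.ext fun P => by
        rw [poleDiv_apply hK]
        have := hall P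
        simp only [Finsupp.coe_zero, Pi.zero_apply]
        omega
      rw [h0] at hpos
      simp [_root_.FunFld.Divisor.deg] at hpos
    have ht1 : 1 < P.1 t := (one_lt_val_iff P).2 hP
    have hrel' : φ B2 * u + φ e * t ^ 2 + φ f * t + φ g = 0 := by
      rw [map_zero, zero_mul, zero_add] at hrel
      linear_combination hrel
    have he : e = 0 := not_rel_one P e B2 f g ht1 (by
      refine (hval P).trans_eq ?_
      rw [val_eq_exp P (Bound.ne_zero_of_transcendental htr), max_eq_left (by omega)]) hrel'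
    subst he
    obtain ⟨h2, h3, h4⟩ := hdep B2 f g (by rw [map_zero, zero_mul, add_zero] at hrel'; exact hrel')
    exact hne ⟨rfl, h2, rfl, h3, h4⟩
  · set r := B2 / B1 with hr
    set s := t + φ r with hs
    have hB : φ B1 * s = φ B1 * t + φ B2 := by
      rw [hs, mul_add, ← map_mul, hr, mul_div_cancel₀ _ hB1]
    set f' := f - 2 * e * r with hf'
    set g' := e * r ^ 2 - f * r + g with hg'
    have hrel' : φ B1 * (u * s) + φ e * s ^ 2 + φ f' * s + φ g' = 0 := by
      have h2 : φ B1 * (u * s) = u * (φ B1 * t + φ B2) := by rw [← hB]; ring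
      rw [h2, hf', hg', hs]
      simp only [map_add, map_sub, map_mul, map_pow, map_ofNat]
      linear_combination hrel
    have hstr : Transcendental k s := by
      refine Bound.transcendental_of_not_mem_range hK ?_
      rintro ⟨v, hv⟩
      refine Bound.not_mem_range_of_transcendental htr ⟨v - r, ?_⟩
      rw [map_sub]
      exact sub_eq_iff_eq_add.2 hv
    obtain ⟨P, hP⟩ : ∃ P : _root_.FunFld.Place k K, 0 < P.ord s := by
      by_contra hall
      push Not at hall
      have h0 : zeroDiv (k := k) s = 0 := Finsupp.ext fun P => by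
        rw [zeroDiv_apply hK]
        have := hall P
        simp only [Finsupp.coe_zero, Pi.zero_apply]
        omega
      have h5 := deg_zeroDiv hK hstr
      rw [h0] at h5
      haveI := Bound.finiteDimensional_adjoin_transcendental hK hstr
      have h6 : 0 < Module.finrank (IntermediateField.adjoin k ({s} : Set K)) K := Module.finrank_pos
      simp [_root_.FunFld.Divisor.deg] at h5
      omega
    have hs1 : P.1 s < 1 := ((ord_pos_iff P).1 hP).2
    have ht1 : P.1 t ≤ 1 := by
      rw [show t = s + -φ r by rw [hs]; ring]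
      exact (P.1.map_add _ _).trans (max_le hs1.le ((Valuation.map_neg _ _).trans_le (P.2.1 r)))
    have hto : 0 ≤ P.ord t := by
      by_contra hlt
      exact absurd ((one_lt_val_iff P).2 (not_le.mp hlt)) (not_lt.mpr ht1)
    have hu1 : P.1 u ≤ 1 := by
      refine (hval P).trans_eq ?_
      rw [max_eq_right (by omega), exp_zero]
    have hg0 : g' = 0 := rel_zero P e B1 f' g' hs1 hu1 hrel'
    have hs0 : s ≠ 0 := Bound.ne_zero_of_transcendental hstr
    have h7 : φ B1 * u + φ e * t + φ (e * r + f') = 0 := by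
      rw [hg0, map_zero, add_zero] at hrel'
      have h8 : s * (φ B1 * u + φ e * t + φ (e * r + f')) = 0 := by
        rw [map_add, map_mul]
        rw [show φ B1 * u + φ e * t + (φ e * φ r + φ f') = φ B1 * u + φ e * s + φ f' by rw [hs]; ring]
        linear_combination hrel'
      exact (mul_eq_zero.1 h8).resolve_left hs0
    exact hB1 (hdep _ _ _ h7).1

/-- The same, for a quadric with a zero whose first coordinate is nonzero. -/
theorem exists_deg_one_of_zero (hK : _root_.FunFld.IsFunctionField k K) {F : Dv} (hd : F.deg = 2)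
    {x y z : K} (hx : x ∈ _root_.FunFld.L F) (hy : y ∈ _root_.FunFld.L F) (hz : z ∈ _root_.FunFld.L F)
    (hind : ∀ α β γ : k, algebraMap k K α * x + algebraMap k K β * y + algebraMap k K γ * z = 0 →
      α = 0 ∧ β = 0 ∧ γ = 0)
    {c0 c1 c2 c3 c4 c5 p0 p1 p2 : k}
    (hne : ¬(c0 = 0 ∧ c1 = 0 ∧ c2 = 0 ∧ c3 = 0 ∧ c4 = 0 ∧ c5 = 0))
    (hp : p0 ≠ 0)
    (hpz : c0 * p0 ^ 2 + c1 * p1 ^ 2 + c2 * p2 ^ 2 + c3 * (p0 * p1) + c4 * (p0 * p2) +
      c5 * (p1 * p2) = 0)
    (h : algebraMap k K c0 * x ^ 2 + algebraMap k K c1 * y ^ 2 + algebraMap k K c2 * z ^ 2 +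
      algebraMap k K c3 * (x * y) + algebraMap k K c4 * (x * z) + algebraMap k K c5 * (y * z) = 0) :
    ∃ D : Dv, D.deg = 1 := by
  set φ := algebraMap k K with hφ
  set a := φ p0⁻¹ * x with hadef
  have hxa : x = φ p0 * a := by
    rw [hadef, ← mul_assoc, ← map_mul, mul_inv_cancel₀ hp, map_one, one_mul]
  have haL : a ∈ _root_.FunFld.L F := by
    rw [hadef, hφ, ← Algebra.smul_def]; exact (_root_.FunFld.L F).smul_mem _ hx
  have hmem : ∀ (p : k) (w : K), w ∈ _root_.FunFld.L F → w - φ p * a ∈ _root_.FunFld.L F := by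
    intro p w hw
    rw [hφ, ← Algebra.smul_def]
    exact (_root_.FunFld.L F).sub_mem hw ((_root_.FunFld.L F).smul_mem _ haL)
  refine exists_deg_one_of_quadric hK hd (a := a) (b := y - φ p1 * a) (c := z - φ p2 * a) haL
    (hmem p1 y hy) (hmem p2 z hz) ?_ (B1 := 2 * c1 * p1 + c3 * p0 + c5 * p2)
    (B2 := 2 * c2 * p2 + c4 * p0 + c5 * p1) (e := c1) (f := c5) (g := c2) ?_ ?_
  · intro α β γ h0
    obtain ⟨hA, hB, hC⟩ := hind ((α - β * p1 - γ * p2) * p0⁻¹) β γ (by
      simp only [map_mul, map_sub]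
      rw [hadef] at h0
      linear_combination h0)
    subst hB hC
    simp [hp] at hA
    exact ⟨hA, rfl, rfl⟩
  · rintro ⟨h1, h2, rfl, rfl, rfl⟩
    simp [hp] at h1 h2
    subst h1 h2
    simp [hp] at hpz
    exact hne ⟨hpz, rfl, rfl, rfl, rfl, rfl⟩
  · have hq : φ c0 * φ p0 ^ 2 + φ c1 * φ p1 ^ 2 + φ c2 * φ p2 ^ 2 + φ c3 * (φ p0 * φ p1) +
        φ c4 * (φ p0 * φ p2) + φ c5 * (φ p1 * φ p2) = 0 := by
      simp only [← map_pow, ← map_mul, ← map_add, hpz, map_zero]
    rw [hxa] at h
    simp only [map_add, map_mul, map_ofNat]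
    linear_combination h - a ^ 2 * hq

/-- A genus-zero function field over a C₁ field has a divisor of degree one. -/
theorem exists_deg_one (hK : _root_.FunFld.IsFunctionField k K) (hg : _root_.FunFld.genus k K = 0)
    (hC : Curves.IsCi k 1) : ∃ D : Dv, D.deg = 1 := by
  obtain ⟨W, hW⟩ := Weil.exists_isCanonical hK
  have hdW : (-W : Dv).deg = 2 := by
    rw [deg_neg, Weil.deg_canonical hK hW, hg]; norm_num
  have hr := Riemann.riemann hK (-W : Dv)
  rw [hdW, hg] at hr
  obtain ⟨F, r, hF, hr0, hWF, hFd⟩ := SmallGenus.exists_nonneg hK (E := (-W : Dv)) (by omega)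
  have hl : 3 ≤ _root_.FunFld.ell F := by
    rw [← Riemann.ell_add_div hK F hr0, ← hWF]; omega
  haveI := finiteDimensional_L hK F
  let v : Fin 3 → K := fun i =>
    (Module.finBasis k (_root_.FunFld.L F) (Fin.castLE hl i) : K)
  have hvm : ∀ i, v i ∈ _root_.FunFld.L F := fun i => SetLike.coe_mem _
  have hv : LinearIndependent k v :=
    ((Module.finBasis k (_root_.FunFld.L F)).linearIndependent.map'
      (_root_.FunFld.L F).subtype (Submodule.ker_subtype _)).comp _ (Fin.castLE_injective hl)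
  have hind : ∀ α β γ : k, algebraMap k K α * v 0 + algebraMap k K β * v 1 + algebraMap k K γ * v 2 = 0 →
      α = 0 ∧ β = 0 ∧ γ = 0 := by
    intro α β γ h
    have := Fintype.linearIndependent_iff.1 hv ![α, β, γ] (by
      simpa [Fin.sum_univ_three, Algebra.smul_def] using h)
    exact ⟨this 0, this 1, this 2⟩
  have hl2 : _root_.FunFld.ell (F + F) ≤ 5 := by
    have h0 : (0 : Dv) ≤ F + F := add_nonneg hF hF
    have := ell_sub_ell_le hK h0
    rw [ell_zero hK, deg_add, hFd, hdW] at this
    simp [_root_.FunFld.Divisor.deg] at this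
    omega
  haveI := finiteDimensional_L hK (F + F)
  have hprod : ∀ i j, v i * v j ∈ _root_.FunFld.L (F + F) := fun i j P => by
    rw [map_mul, Finsupp.add_apply, exp_add]
    exact mul_le_mul' (hvm i P) (hvm j P)
  let w : Fin 6 → _root_.FunFld.L (F + F) :=
    ![⟨_, hprod 0 0⟩, ⟨_, hprod 1 1⟩, ⟨_, hprod 2 2⟩, ⟨_, hprod 0 1⟩, ⟨_, hprod 0 2⟩, ⟨_, hprod 1 2⟩]
  have hw : ¬LinearIndependent k w := fun h => by
    have := h.fintype_card_le_finrank
    rw [Fintype.card_fin] at this
    exact absurd this (by unfold _root_.FunFld.ell at hl2; omega)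
  obtain ⟨c, hc0, i, hi⟩ := Fintype.not_linearIndependent_iff.1 hw
  have hq : algebraMap k K (c 0) * v 0 ^ 2 + algebraMap k K (c 1) * v 1 ^ 2 +
      algebraMap k K (c 2) * v 2 ^ 2 + algebraMap k K (c 3) * (v 0 * v 1) +
      algebraMap k K (c 4) * (v 0 * v 2) + algebraMap k K (c 5) * (v 1 * v 2) = 0 := by
    have := congrArg (fun z : _root_.FunFld.L (F + F) => (z : K)) hc0
    simpa [w, Fin.sum_univ_six, Algebra.smul_def, sq, add_assoc] using this
  have hne : ¬(c 0 = 0 ∧ c 1 = 0 ∧ c 2 = 0 ∧ c 3 = 0 ∧ c 4 = 0 ∧ c 5 = 0) := by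
    rintro ⟨h0, h1, h2, h3, h4, h5⟩
    fin_cases i <;> exact hi (by assumption)
  let q : MvPolynomial (Fin 3) k :=
    MvPolynomial.C (c 0) * (MvPolynomial.X 0 * MvPolynomial.X 0) +
    MvPolynomial.C (c 1) * (MvPolynomial.X 1 * MvPolynomial.X 1) +
    MvPolynomial.C (c 2) * (MvPolynomial.X 2 * MvPolynomial.X 2) +
    MvPolynomial.C (c 3) * (MvPolynomial.X 0 * MvPolynomial.X 1) +
    MvPolynomial.C (c 4) * (MvPolynomial.X 0 * MvPolynomial.X 2) +
    MvPolynomial.C (c 5) * (MvPolynomial.X 1 * MvPolynomial.X 2)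
  have hm : ∀ (a : k) (i j : Fin 3),
      (MvPolynomial.C a * (MvPolynomial.X i * MvPolynomial.X j)).IsHomogeneous 2 := fun a i j => by
    simpa using (MvPolynomial.isHomogeneous_C (Fin 3) a).mul
      ((MvPolynomial.isHomogeneous_X k i).mul (MvPolynomial.isHomogeneous_X k j))
  have hhom : q.IsHomogeneous 2 :=
    ((((((hm _ 0 0).add (hm _ 1 1)).add (hm _ 2 2)).add (hm _ 0 1)).add (hm _ 0 2)).add (hm _ 1 2))
  obtain ⟨p, hp, hp0⟩ := hC 1 3 (fun _ => q) (fun _ => 2) (fun _ => hhom) (fun _ => by norm_num)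
    (by simp)
  have hpq := hp0 0
  simp [q] at hpq
  have hd : F.deg = 2 := hFd.trans hdW
  have hj' : p 0 ≠ 0 ∨ p 1 ≠ 0 ∨ p 2 ≠ 0 := by
    by_contra hall
    push Not at hall
    exact hp (funext fun j => by fin_cases j <;> [exact hall.1; exact hall.2.1; exact hall.2.2])
  rcases hj' with hj | hj | hj
  · exact exists_deg_one_of_zero hK hd (hvm 0) (hvm 1) (hvm 2) hind hne hj
      (p1 := p 1) (p2 := p 2) (by linear_combination hpq) hq
  · refine exists_deg_one_of_zero hK hd (hvm 1) (hvm 0) (hvm 2) (fun α β γ h => ?_)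
      (c0 := c 1) (c1 := c 0) (c2 := c 2) (c3 := c 3) (c4 := c 5) (c5 := c 4) ?_ hj
      (p1 := p 0) (p2 := p 2) (by linear_combination hpq) (by linear_combination hq)
    · obtain ⟨x, y, z⟩ := hind β α γ (by linear_combination h)
      exact ⟨y, x, z⟩
    · rintro ⟨a, b, d, e, f, g⟩; exact hne ⟨b, a, d, e, g, f⟩
  · refine exists_deg_one_of_zero hK hd (hvm 2) (hvm 1) (hvm 0) (fun α β γ h => ?_)
      (c0 := c 2) (c1 := c 1) (c2 := c 0) (c3 := c 5) (c4 := c 4) (c5 := c 3) ?_ hj
      (p1 := p 1) (p2 := p 0) (by linear_combination hpq) (by linear_combination hq)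
    · obtain ⟨x, y, z⟩ := hind γ β α (by linear_combination h)
      exact ⟨z, y, x⟩
    · rintro ⟨a, b, d, e, f, g⟩; exact hne ⟨d, b, a, g, f, e⟩

end Groth.Agent.H34.Conic
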